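import Groth.Agent.Lib.SepPt17.Insep
import Groth.Agent.Lib.GenusFF17.Main
import Groth.Agent.Lib.Curve17.FrobTwist
import Groth.Agent.Lib.CurveCoh17.GenusBC
import Groth.Agent.Lib.VB17.Proper
import Mathlib.RingTheory.Kaehler.Basic
import Mathlib.RingTheory.Unramified.Field
import Mathlib.FieldTheory.SeparableClosure

/-!
# A separable coordinate of degree at most `2g - 2`

If all of `L(C)`, `C` canonical, lay in `k(K^p)`, the function field of the Frobenius twist, which
has the same genus, Riemann–Roch there would force genus zero.
-/

set_option linter.style.haveILetI false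
set_option autoImplicit false
set_option maxHeartbeats 800000

universe u

open CategoryTheory CategoryTheory.Limits AlgebraicGeometry TopologicalSpace

namespace Groth.Agent.SepPt17

attribute [local instance] Curv2.stalkAlgebra

/-- A field point at the generic point factors through the function field. -/
theorem exists_lift_functionField {Z : Scheme.{u}} [IsIntegral Z] {R : CommRingCat.{u}} [IsLocalRing R]
    (φ : Spec R ⟶ Z) (h : φ (IsLocalRing.closedPoint R) = genericPoint Z) :
    ∃ σ : Z.functionField ⟶ R, Spec.map σ ≫ Z.fromSpecStalk (genericPoint Z) = φ := by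
  refine ⟨Z.presheaf.stalkSpecializes (specializes_of_eq h) ≫ Scheme.stalkClosedPointTo φ, ?_⟩
  rw [Spec.map_comp, Category.assoc, Scheme.SpecMap_stalkSpecializes_fromSpecStalk]
  exact Scheme.Spec_stalkClosedPointTo_fromSpecStalk φ

/-- The function field of a base change by a field is generated by that of `X` and the constants. -/
theorem adjoin_genMap_eq_top {k : Type u} [Field k] {X Z : Scheme.{u}} [IsIntegral X] [IsIntegral Z]
    [Z.Over (Spec (CommRingCat.of k))] {a : X ⟶ Spec (CommRingCat.of k)} {ψ : CommRingCat.of k ⟶ CommRingCat.of k}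
    {q : Z ⟶ X} (hpb : IsPullback q (Z ↘ Spec (CommRingCat.of k)) a (Spec.map ψ))
    (e : q (genericPoint Z) = genericPoint X) :
    IntermediateField.adjoin k (Set.range (Curve17.genMap q e).hom) = ⊤ := by
  set M := IntermediateField.adjoin k (Set.range (Curve17.genMap q e).hom) with hM
  let q' : X.functionField →+* M :=
    (Curve17.genMap q e).hom.codRestrict M fun x => IntermediateField.subset_adjoin k _ ⟨x, rfl⟩
  let incl : CommRingCat.of M ⟶ Z.functionField := CommRingCat.ofHom (algebraMap M Z.functionField)
  let c : CommRingCat.of k ⟶ CommRingCat.of M := CommRingCat.ofHom (algebraMap k M)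
  have hc : c ≫ incl = Curve17.baseStalk (Z ↘ Spec (CommRingCat.of k)) (genericPoint Z) := rfl
  have hq' : CommRingCat.ofHom q' ≫ incl = Curve17.genMap q e := rfl
  have hinj : Function.Injective incl.hom := (algebraMap M Z.functionField).injective
  have hcomp : Curve17.baseStalk a (genericPoint X) ≫ CommRingCat.ofHom q' = ψ ≫ c := by
    have h : Curve17.baseStalk a (genericPoint X) ≫ Curve17.genMap q e =
        ψ ≫ Curve17.baseStalk (Z ↘ Spec (CommRingCat.of k)) (genericPoint Z) := by
      apply Spec.map_injective
      rw [Spec.map_comp, Spec.map_comp, Curve17.SpecMap_baseStalk, Curve17.SpecMap_baseStalk,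
        ← Category.assoc, Curve17.SpecMap_genMap, Category.assoc, Category.assoc, hpb.w]
    rw [← hq', ← hc] at h
    ext z
    exact congrArg Subtype.val (hinj (congrArg (fun r => r.hom z) h))
  let φ : Spec (CommRingCat.of M) ⟶ Z := hpb.lift
    (Spec.map (CommRingCat.ofHom q') ≫ X.fromSpecStalk (genericPoint X)) (Spec.map c) (by
      rw [Category.assoc, ← Curve17.SpecMap_baseStalk, ← Spec.map_comp, ← Spec.map_comp]
      exact congrArg Spec.map hcomp)
  have hφ : Spec.map incl ≫ φ = Z.fromSpecStalk (genericPoint Z) := by
    refine hpb.hom_ext ?_ ?_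
    · rw [Category.assoc, hpb.lift_fst, ← Category.assoc, ← Spec.map_comp, hq', Curve17.SpecMap_genMap]
    · rw [Category.assoc, hpb.lift_snd, ← Spec.map_comp, hc, Curve17.SpecMap_baseStalk]
  obtain ⟨τ, hτ⟩ := exists_lift_functionField φ (by
    have h := congrArg (fun r => r (IsLocalRing.closedPoint Z.functionField)) hφ
    refine Eq.trans ?_ (h.trans Scheme.fromSpecStalk_closedPoint)
    exact congrArg φ (Subsingleton.elim (α := PrimeSpectrum M) _ _))
  have hid : τ ≫ incl = 𝟙 _ := by
    apply Spec.map_injective
    rw [← cancel_mono (Z.fromSpecStalk (genericPoint Z)), Spec.map_comp, Category.assoc, hτ, Spec.map_id,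
      Category.id_comp, hφ]
  refine eq_top_iff.2 fun z _ => ?_
  have h := congrArg (fun r => r.hom z) hid
  exact (show algebraMap M Z.functionField (τ.hom z) = z from h) ▸ (τ.hom z).2

/-- Genus and constants of a base change along a homomorphism of fields. -/
theorem finrank_HH_pullback {k K : Type u} [Field k] [Field K] {X Y : Scheme.{u}}
    [X.Over (Spec (CommRingCat.of k))] [Y.Over (Spec (CommRingCat.of K))] [CompactSpace X]
    [QuasiSeparatedSpace X] (h : k →+* K) {g : Y ⟶ X}
    (hpb : IsPullback g (Y ↘ Spec (CommRingCat.of K)) (X ↘ Spec (CommRingCat.of k))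
      (Spec.map (CommRingCat.ofHom h))) (n : ℕ) :
    Module.finrank K (Coh.HH Y (Coh.structureModule Y) n) = Module.finrank k (Coh.HH X (Coh.structureModule X) n) := by
  letI := h.toAlgebra
  exact CurveCoh17.finrank_HH_of_isPullback hpb n

/-- A field generated over `k` by `k` and the `p`-th powers has no transcendental element. -/
theorem not_transcendental_of_adjoin_pow {k K : Type u} [Field k] [Field K] [Algebra k K]
    [Algebra.EssFiniteType k K] (p : ℕ) [ExpChar k p] (hp : (p : k) = 0)
    (h : IntermediateField.adjoin k (Set.range fun a : K => a ^ p) = ⊤) (f : K) : ¬ Transcendental k f := by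
  have hp' : (p : K) = 0 := by rw [← map_natCast (algebraMap k K), hp, map_zero]
  let D := KaehlerDifferential.D k K
  let M : IntermediateField k K :=
    { carrier := {x | D x = 0}
      mul_mem' := fun {a b} ha hb => by
        show D (a * b) = 0
        rw [Derivation.leibniz, show D a = 0 from ha, show D b = 0 from hb, smul_zero, smul_zero, add_zero]
      one_mem' := D.map_one_eq_zero
      add_mem' := fun {a b} ha hb => by
        show D (a + b) = 0
        rw [map_add, show D a = 0 from ha, show D b = 0 from hb, add_zero]
      zero_mem' := map_zero D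
      algebraMap_mem' := fun c => D.map_algebraMap c
      inv_mem' := fun a ha => by
        show D a⁻¹ = 0
        rw [Derivation.leibniz_inv, show D a = 0 from ha, smul_zero] }
  have hM : M = ⊤ := eq_top_iff.2 (h ▸ IntermediateField.adjoin_le_iff.2 (by
    rintro _ ⟨a, rfl⟩
    show D (a ^ p) = 0
    rw [Derivation.leibniz_pow, ← Nat.cast_smul_eq_nsmul K, hp', zero_smul]))
  haveI : Algebra.FormallyUnramified k K := by
    refine ⟨?_⟩
    refine subsingleton_of_forall_eq 0 fun ω => ?_
    have hω : ω ∈ Submodule.span K (Set.range D) := KaehlerDifferential.span_range_derivation k K ▸ trivial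
    induction hω using Submodule.span_induction with
    | mem x hx =>
      obtain ⟨a, rfl⟩ := hx
      exact (show a ∈ M from hM ▸ trivial)
    | zero => rfl
    | add x y _ _ hx hy => rw [hx, hy, add_zero]
    | smul c x _ hx => rw [hx, smul_zero]
  haveI := Algebra.FormallyUnramified.isSeparable k K
  exact fun hf => hf (Algebra.IsAlgebraic.isAlgebraic f)

variable {k : Type u} [Field k] {X : Scheme.{u}} [X.Over (Spec (CommRingCat.of k))] [IsIntegral X]
  [IsProper (X ↘ Spec (CommRingCat.of k))] [Smooth (X ↘ Spec (CommRingCat.of k))]

/-- A separable coordinate of degree at most `2g - 2`. -/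
theorem exists_separable_coord (hdim : topologicalKrullDim X = 1)
    (h0 : Module.finrank k (Coh.HH X (Coh.structureModule X) 0) = 1) (hg : 2 ≤ Curv2.genus k X) :
    ∃ f : X.functionField, Transcendental k f ∧
      Algebra.IsSeparable (IntermediateField.adjoin k ({f} : Set X.functionField)) X.functionField ∧
      Module.finrank (IntermediateField.adjoin k ({f} : Set X.functionField)) X.functionField ≤
        2 * Curv2.genus k X - 2 := by
  classical
  obtain ⟨hK, hgK⟩ := GenusFF17.genus_functionField hdim h0
  have hF := FunField.ff hK
  have hbound : ∀ f : X.functionField, Transcendental k f →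
      (FunField.poleDiv (k := k) f).deg ≤ 2 * FunFld.genus k X.functionField - 2 →
      Module.finrank (IntermediateField.adjoin k ({f} : Set X.functionField)) X.functionField ≤
        2 * Curv2.genus k X - 2 := fun f hf hd => by
    rw [FunField.deg_poleDiv hF hf] at hd
    omega
  let p := ringExpChar k
  haveI : ExpChar k p := inferInstanceAs (ExpChar k (ringExpChar k))
  rcases expChar_is_prime_or_one k p with hp | hp1
  swap
  · -- characteristic zero
    haveI : ExpChar k 1 := hp1 ▸ ‹ExpChar k p›
    haveI : CharZero k := charZero_of_expChar_one' k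
    obtain ⟨C₀, hC₀⟩ := FunField.exists_isCanonical hK
    obtain ⟨hl₀, hd₀⟩ := FunField.isCanonical_deg hK hC₀
    obtain ⟨z, hz, hzC⟩ := FunField.exists_ne_zero_of_ell_pos hF (D := C₀) (by omega)
    set C := C₀ + FunFld.div k z
    have hlC : FunFld.ell C = FunFld.genus k X.functionField := by
      rw [FunField.ell_add_div hF C₀ hz, hl₀]
    obtain ⟨f, hf, hf0⟩ : ∃ f ∈ FunFld.L C, f ∉ FunFld.L (0 : FunFld.Divisor k X.functionField) := by
      by_contra hc
      push_neg at hc
      haveI := FunField.finiteDimensional_L hF (0 : FunFld.Divisor k X.functionField)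
      have h2 := Submodule.finrank_mono (hc : FunFld.L C ≤ FunFld.L (0 : FunFld.Divisor k X.functionField))
      rw [← FunFld.ell, ← FunFld.ell, FunField.ell_zero hK] at h2
      omega
    have hft : Transcendental k f := fun ha => hf0 (by
      obtain ⟨c, rfl⟩ := hK.2 f ha
      intro P
      simpa using P.2.1 c)
    have hle : FunField.poleDiv (k := k) f ≤ C := fun P => by
      rw [FunField.poleDiv_apply hF]
      refine max_le ?_ (hzC P)
      have := (FunField.mem_L_iff_ord (FunField.ne_zero_of_transcendental hft)).1 hf P
      omega
    have hd := FunField.deg_mono hle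
    rw [FunField.deg_add, FunField.deg_div hF, hd₀] at hd
    haveI := hF.finiteDimensional hft
    haveI : CharZero (IntermediateField.adjoin k ({f} : Set X.functionField)) :=
      charZero_of_injective_algebraMap (algebraMap k _).injective
    exact ⟨f, hft, inferInstance, hbound f hft (by omega)⟩
  haveI : Fact p.Prime := ⟨hp⟩
  have hp0 : (p : k) = 0 := by
    have haux : ∀ q : ℕ, q.Prime → ExpChar k q → (q : k) = 0 := fun q hq hc => by
      cases hc
      · exact absurd hq Nat.not_prime_one
      · exact CharP.cast_eq_zero k q
    exact haux p hp inferInstance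
  haveI : ExpChar X.functionField p := expChar_of_injective_algebraMap (algebraMap k X.functionField).injective p
  -- the Frobenius twist
  let ψ := CommRingCat.ofHom (iterateFrobenius k p 1)
  let Z := pullback (X ↘ Spec (CommRingCat.of k)) (Spec.map ψ)
  let q : Z ⟶ X := pullback.fst (X ↘ Spec (CommRingCat.of k)) (Spec.map ψ)
  letI : Z.Over (Spec (CommRingCat.of k)) := ⟨pullback.snd (X ↘ Spec (CommRingCat.of k)) (Spec.map ψ)⟩
  have hpb : IsPullback q (Z ↘ Spec (CommRingCat.of k)) (X ↘ Spec (CommRingCat.of k)) (Spec.map ψ) :=
    IsPullback.of_hasPullback _ _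
  haveI : Smooth (Z ↘ Spec (CommRingCat.of k)) := inferInstanceAs (Smooth (pullback.snd _ (Spec.map ψ)))
  haveI : IsProper (Z ↘ Spec (CommRingCat.of k)) := inferInstanceAs (IsProper (pullback.snd _ (Spec.map ψ)))
  have hq : IsHomeomorph q := Curve17.isHomeomorph_fst_iterateFrobenius k p 1 (X ↘ Spec (CommRingCat.of k))
  haveI : IrreducibleSpace Z := hq.homeomorph.symm.surjective.irreducibleSpace hq.homeomorph.symm.continuous
  haveI : IsReduced Z := by
    haveI : ∀ z : Z, _root_.IsReduced (Z.presheaf.stalk z) := fun z =>
      haveI := SmoothReg17.isDomain_stalk (Z ↘ Spec (CommRingCat.of k)) z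
      inferInstance
    exact isReduced_of_isReduced_stalk Z
  haveI : IsIntegral Z := isIntegral_of_irreducibleSpace_of_isReduced Z
  haveI := VB17.isNoetherian_of_over (k := k) (X := X)
  have hdZ : topologicalKrullDim Z = 1 := (IsHomeomorph.topologicalKrullDim_eq _ hq).trans hdim
  obtain ⟨hL, hgL⟩ := GenusFF17.genus_functionField (k := k) hdZ
    ((finrank_HH_pullback (iterateFrobenius k p 1) hpb 0).trans h0)
  have hgZ : FunFld.genus k Z.functionField = FunFld.genus k X.functionField := by
    rw [hgL, hgK]
    exact finrank_HH_pullback (iterateFrobenius k p 1) hpb 1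
  have eq := Curve17.apply_genericPoint_of_surjective q hq.surjective
  -- the embedding of its function field
  let F : X.functionField ⟶ X.functionField := CommRingCat.ofHom (iterateFrobenius X.functionField p 1)
  let ξ := X.fromSpecStalk (genericPoint X)
  let φ : Spec X.functionField ⟶ Z := pullback.lift (Spec.map F ≫ ξ) (ξ ≫ (X ↘ Spec (CommRingCat.of k))) (by
    rw [Category.assoc, ← Curve17.SpecMap_baseStalk, ← Spec.map_comp, ← Spec.map_comp]
    refine congrArg Spec.map ?_
    ext c
    exact (RingHom.map_iterateFrobenius (Curve17.baseStalk (X ↘ Spec (CommRingCat.of k)) (genericPoint X)).hom p c 1).symm)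
  obtain ⟨σ, hσ⟩ := exists_lift_functionField φ (by
    apply hq.injective
    rw [eq]
    refine ((Scheme.Hom.comp_apply φ q _).symm.trans
      (congrArg (fun r : Spec X.functionField ⟶ X => r (IsLocalRing.closedPoint X.functionField))
        (pullback.lift_fst _ _ _))).trans ?_
    show ξ (Spec.map F (IsLocalRing.closedPoint X.functionField)) = genericPoint X
    refine (congrArg ξ (Subsingleton.elim (α := PrimeSpectrum X.functionField) _
      (IsLocalRing.closedPoint X.functionField))).trans ?_
    exact Scheme.fromSpecStalk_closedPoint)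
  have hσq : Curve17.genMap q eq ≫ σ = F := by
    apply Spec.map_injective
    rw [← cancel_mono (X.fromSpecStalk (genericPoint X)), Spec.map_comp, Category.assoc,
      Curve17.SpecMap_genMap, ← Category.assoc, hσ]
    exact pullback.lift_fst _ _ _
  have hσb : Curve17.baseStalk (Z ↘ Spec (CommRingCat.of k)) (genericPoint Z) ≫ σ =
      Curve17.baseStalk (X ↘ Spec (CommRingCat.of k)) (genericPoint X) := by
    apply Spec.map_injective
    rw [Spec.map_comp, Curve17.SpecMap_baseStalk, Curve17.SpecMap_baseStalk, ← Category.assoc, hσ]
    exact pullback.lift_snd _ _ _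
  letI : Algebra Z.functionField X.functionField := σ.hom.toAlgebra
  haveI : IsScalarTower k Z.functionField X.functionField :=
    IsScalarTower.of_algebraMap_eq' (congrArg CommRingCat.Hom.hom hσb).symm
  have hpow : ∀ a : X.functionField, algebraMap Z.functionField X.functionField ((Curve17.genMap q eq).hom a) =
      a ^ p := fun a =>
    (congrArg (fun r => r.hom a) hσq).trans ((iterateFrobenius_def p 1 a).trans (by rw [pow_one]))
  have hrange : (IsScalarTower.toAlgHom k Z.functionField X.functionField).fieldRange =
      IntermediateField.adjoin k (Set.range fun a : X.functionField => a ^ p) := by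
    rw [AlgHom.fieldRange_eq_map, ← adjoin_genMap_eq_top hpb eq, IntermediateField.adjoin_map, ← Set.range_comp]
    exact congrArg _ (congrArg Set.range (funext hpow))
  haveI : Algebra.EssFiniteType k X.functionField :=
    Curve17.essFiniteType_functionField (X ↘ Spec (CommRingCat.of k))
  haveI : Algebra.EssFiniteType Z.functionField X.functionField := Algebra.EssFiniteType.of_comp k _ _
  haveI : ExpChar Z.functionField p :=
    expChar_of_injective_algebraMap (algebraMap k Z.functionField).injective p
  haveI : IsPurelyInseparable Z.functionField X.functionField :=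
    (isPurelyInseparable_iff_pow_mem Z.functionField p).2 fun a => ⟨1, _, (hpow a).trans (by rw [pow_one])⟩
  haveI : Algebra.IsAlgebraic Z.functionField X.functionField := Algebra.IsIntegral.isAlgebraic
  haveI : FiniteDimensional Z.functionField X.functionField :=
    Algebra.finite_of_essFiniteType_of_isAlgebraic
  have hdeg : 2 ≤ Module.finrank Z.functionField X.functionField := by
    by_contra hlt
    have h1 : Module.finrank Z.functionField X.functionField = 1 := by
      have := Module.finrank_pos (R := Z.functionField) (M := X.functionField)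
      omega
    obtain ⟨⟨t, htr, -⟩, -⟩ := hK
    refine not_transcendental_of_adjoin_pow p hp0 (hrange ▸ eq_top_iff.2 fun z _ => ?_) t htr
    obtain ⟨c, hc⟩ := (finrank_eq_one_iff_of_nonzero' (1 : X.functionField) one_ne_zero).1 h1 z
    exact ⟨c, by rw [← hc, Algebra.smul_def, mul_one]; rfl⟩
  obtain ⟨f, hf, hfd⟩ := exists_not_mem_range hL hK (by omega) hgZ hdeg
  have hft : Transcendental k f := fun ha => hf (by
    obtain ⟨c, rfl⟩ := hK.2 f ha
    exact ⟨algebraMap k Z.functionField c, (IsScalarTower.algebraMap_apply _ _ _ _).symm⟩)
  refine ⟨f, hft, ?_, hbound f hft hfd⟩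
  haveI := hF.finiteDimensional hft
  obtain ⟨t, ht⟩ := Curve17.exists_separable_functionField (X ↘ Spec (CommRingCat.of k)) hdim
  let S := separableClosure (IntermediateField.adjoin k ({f} : Set X.functionField)) X.functionField
  let S' : IntermediateField k X.functionField := S.restrictScalars k
  haveI : IsPurelyInseparable S' X.functionField :=
    show IsPurelyInseparable S X.functionField from separableClosure.isPurelyInseparable _ _
  letI algS' : Algebra k S' := S'.algebra'
  obtain ⟨r, hr, hrS⟩ := @Curve17.exists_fieldRange_eq_adjoin_pow k S' X.functionField _ _ _ algS' _ _ (IsScalarTower.of_algebraMap_eq fun _ => rfl) p _ _ _ t ht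
  rcases r with _ | r
  · refine ⟨fun a => ?_⟩
    obtain ⟨b, hb⟩ := hr a
    rw [pow_zero, pow_one] at hb
    exact hb ▸ mem_separableClosure_iff.1 b.2
  · exfalso
    refine hf ?_
    have hfS : f ∈ (IsScalarTower.toAlgHom k S' X.functionField).fieldRange :=
      ⟨⟨f, S.algebraMap_mem ⟨f, IntermediateField.mem_adjoin_simple_self k f⟩⟩, rfl⟩
    rw [hrS] at hfS
    have hle : IntermediateField.adjoin k (Set.range fun a : X.functionField => a ^ p ^ (r + 1)) ≤
        (IsScalarTower.toAlgHom k Z.functionField X.functionField).fieldRange := by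
      rw [IntermediateField.adjoin_le_iff]
      rintro _ ⟨a, rfl⟩
      exact ⟨_, (hpow (a ^ p ^ r)).trans (by rw [← pow_mul, ← pow_succ])⟩
    exact hle hfS

end Groth.Agent.SepPt17
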