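import Groth.Agent.Lib.FunField.Ext
import Groth.Agent.Lib.FunField.RR
import Groth.Agent.Lib.FunField.Riemann

/-!
# A function of degree at most `2g - 2` outside a proper subfield of the same genus
-/

set_option autoImplicit false

namespace Groth.Agent.SepPt17

open WithZero FunFld Groth.Agent.FunField
open scoped Multiplicative

variable {k L K : Type*} [Field k] [Field L] [Field K] [Algebra k L] [Algebra L K] [Algebra k K]
  [IsScalarTower k L K] [FiniteDimensional L K]

theorem exists_upper (hL : FF k L) {C : Divisor k K} (hC : 0 ≤ C) (s : Finset L)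
    (hs : ∀ a ∈ s, poleDiv (k := k) (algebraMap L K a) ≤ C) :
    ∃ E : Divisor k L, 0 ≤ E ∧ (∀ a ∈ s, poleDiv (k := k) a ≤ E) ∧
      ∀ Q : Place k K, (ramIdx Q (under hL Q) : ℤ) * E (under hL Q) ≤ C Q := by
  classical
  induction s using Finset.induction_on with
  | empty => exact ⟨0, le_rfl, by simp, fun Q => by simpa using hC Q⟩
  | insert a s ha ih =>
    obtain ⟨E, hE0, hE, hEC⟩ := ih fun b hb => hs b (Finset.mem_insert_of_mem hb)
    refine ⟨E ⊔ poleDiv (k := k) a, le_sup_of_le_left hE0, fun b hb => ?_, fun Q => ?_⟩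
    · rcases Finset.mem_insert.1 hb with rfl | hb
      · exact le_sup_right
      · exact (hE b hb).trans le_sup_left
    · rw [Finsupp.sup_apply, mul_max_of_nonneg _ _ (Int.natCast_nonneg _)]
      refine max_le (hEC Q) ?_
      have h := hs a (Finset.mem_insert_self a s) Q
      rw [poleDiv_apply (ff_extend hL), ord_algebraMap hL] at h
      rw [poleDiv_apply hL, mul_max_of_nonneg _ _ (Int.natCast_nonneg _), mul_zero, mul_neg]
      exact h

section rational

omit [Algebra L K] [Algebra k K] [IsScalarTower k L K] [FiniteDimensional L K]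

/-- A nonzero effective divisor with `ℓ = deg + 1` forces genus zero. -/
theorem eq_zero_of_delta (hL : IsFunctionField k L) {E : Divisor k L} (hE0 : 0 ≤ E)
    (hdeg : 0 < E.deg) (hell : E.deg + 1 ≤ ell E) : genus k L = 0 := by
  classical
  have h := ff hL
  obtain ⟨P, hP⟩ : ∃ P, 0 < E P := by
    by_contra hc
    push_neg at hc
    have : E = 0 := Finsupp.ext fun P => le_antisymm (hc P) (hE0 P)
    rw [this, deg_zero] at hdeg
    omega
  let D : ℕ → Divisor k L := fun n => Finsupp.single P (n : ℤ)
  have hD : Monotone D := fun m n hmn Q => by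
    by_cases hQ : Q = P
    · subst hQ; simpa [D] using hmn
    · simp [D, Finsupp.single_eq_of_ne hQ]
  have hD1 : D 1 ≤ E := fun Q => by
    by_cases hQ : Q = P
    · subst hQ; simp only [D, Finsupp.single_eq_same]; omega
    · simpa [D, Finsupp.single_eq_of_ne hQ] using hE0 Q
  have hdegD : ∀ n : ℕ, (D n).deg = n * P.deg := fun n => deg_single P n
  have h1 : (P.deg : ℤ) + 1 ≤ ell (D 1) := by
    have := delta_mono h hD1
    rw [delta, delta, hdegD] at this
    omega
  have hpos := deg_pos h P
  haveI := fun n => finiteDimensional_L h (D n)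
  have hzero : FunFld.L (D 0) = FunFld.L (0 : Divisor k L) := by simp [D]
  obtain ⟨f, hf, hf'⟩ : ∃ f ∈ FunFld.L (D 1), f ∉ FunFld.L (D 0) := by
    by_contra hc
    push_neg at hc
    have h2 := Submodule.finrank_mono (hc : FunFld.L (D 1) ≤ FunFld.L (D 0))
    rw [hzero, ← FunFld.ell, ← FunFld.ell, ell_zero hL] at h2
    omega
  have hf0 : f ≠ 0 := fun e => hf' (e ▸ zero_mem _)
  have hfQ : ∀ Q, Q ≠ P → 0 ≤ Q.ord f := fun Q hQ => by
    simpa [D, Finsupp.single_eq_of_ne hQ] using (mem_L_iff_ord hf0).1 hf Q
  have hfP : P.ord f = -1 := by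
    have h2 := (mem_L_iff_ord hf0).1 hf P
    simp only [D, Finsupp.single_eq_same] at h2
    by_contra hc
    refine hf' ((mem_L_iff_ord hf0).2 fun Q => ?_)
    by_cases hQ : Q = P
    · subst hQ; simp only [D, Finsupp.single_eq_same]; omega
    · simpa [D, Finsupp.single_eq_of_ne hQ] using hfQ Q hQ
  have hstep : ∀ n : ℕ, (n : ℤ) * P.deg + 1 ≤ ell (D n) := by
    intro n
    induction n with
    | zero => rw [FunFld.ell, hzero, ← FunFld.ell, ell_zero hL]; simp
    | succ n ih =>
      have hmul : ∀ a ∈ FunFld.L (D 1), f ^ n * a ∈ FunFld.L (D (n + 1)) := fun a ha => by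
        rcases eq_or_ne a 0 with rfl | ha0
        · simp
        refine (mem_L_iff_ord (mul_ne_zero (pow_ne_zero _ hf0) ha0)).2 fun Q => ?_
        have h2 := (mem_L_iff_ord ha0).1 ha Q
        rw [ord_mul Q (pow_ne_zero _ hf0) ha0, ord_pow]
        by_cases hQ : Q = P
        · subst hQ
          simp only [D, Finsupp.single_eq_same, hfP] at h2 ⊢
          push_cast at h2 ⊢
          linarith
        · simp only [D, Finsupp.single_eq_of_ne hQ, add_zero] at h2 ⊢
          have := mul_nonneg (Int.natCast_nonneg n) (hfQ Q hQ)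
          linarith
      let μ : FunFld.L (D 1) →ₗ[k] FunFld.L (D (n + 1)) :=
        (((LinearMap.mulLeft k (f ^ n)).comp (FunFld.L (D 1)).subtype).codRestrict (FunFld.L (D (n + 1))) fun a => hmul a a.2)
      let S := (FunFld.L (D n)).comap (FunFld.L (D (n + 1))).subtype
      let φ := S.mkQ ∘ₗ μ
      have hker : LinearMap.ker φ ≤ (FunFld.L (D 0)).comap (FunFld.L (D 1)).subtype := by
        intro a ha
        have ha' : f ^ n * (a : L) ∈ FunFld.L (D n) := (Submodule.Quotient.mk_eq_zero S).1 ha
        show (a : L) ∈ FunFld.L (D 0)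
        rcases eq_or_ne (a : L) 0 with e | ha0
        · rw [e]; exact zero_mem _
        refine (mem_L_iff_ord ha0).2 fun Q => ?_
        by_cases hQ : Q = P
        · subst hQ
          have h3 := (mem_L_iff_ord (mul_ne_zero (pow_ne_zero _ hf0) ha0)).1 ha' Q
          rw [ord_mul Q (pow_ne_zero _ hf0) ha0, ord_pow] at h3
          simp only [D, Finsupp.single_eq_same, hfP] at h3 ⊢
          push_cast
          linarith
        · have h2 := (mem_L_iff_ord ha0).1 a.2 Q
          simpa [D, Finsupp.single_eq_of_ne hQ] using h2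
      have hk : Module.finrank k (LinearMap.ker φ) ≤ 1 := by
        refine (Submodule.finrank_mono hker).trans ?_
        rw [(Submodule.comapSubtypeEquivOfLe (L_mono (hD (Nat.zero_le 1)))).finrank_eq, hzero,
          ← FunFld.ell, ell_zero hL]
      have h2 := φ.finrank_range_add_finrank_ker
      have h3 := Submodule.finrank_le (LinearMap.range φ)
      have h4 := S.finrank_quotient_add_finrank
      rw [(Submodule.comapSubtypeEquivOfLe (L_mono (hD (Nat.le_succ n)))).finrank_eq] at h4
      rw [← FunFld.ell, ← FunFld.ell] at h4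
      rw [← FunFld.ell] at h2
      push_cast
      linarith
  have hbig := hstep (2 * genus k L)
  have h2 := ell_of_large_deg hL (D (2 * genus k L)) (by
    rw [hdegD]
    push_cast
    have : (genus k L : ℤ) * 1 ≤ genus k L * P.deg :=
      mul_le_mul_of_nonneg_left (by exact_mod_cast hpos) (Int.natCast_nonneg _)
    linarith)
  rw [hdegD] at h2
  omega

end rational

/-- A function of degree at most `2g - 2` outside a proper subfield of the same genus. -/
theorem exists_not_mem_range (hL : IsFunctionField k L) (hK : IsFunctionField k K) (hg : 2 ≤ genus k K)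
    (hgL : genus k L = genus k K) (hdeg : 2 ≤ Module.finrank L K) :
    ∃ f : K, f ∉ Set.range (algebraMap L K) ∧ (poleDiv (k := k) f).deg ≤ 2 * genus k K - 2 := by
  classical
  by_contra hcon
  push_neg at hcon
  obtain ⟨C₀, hC₀⟩ := exists_isCanonical hK
  obtain ⟨hl₀, hd₀⟩ := isCanonical_deg hK hC₀
  obtain ⟨f₀, hf₀0, hf₀⟩ := exists_ne_zero_of_ell_pos (ff hK) (D := C₀) (by omega)
  set C := C₀ + FunFld.div k f₀
  have hC : 0 ≤ C := hf₀
  have hdC : C.deg = 2 * genus k K - 2 := by rw [deg_add, deg_div (ff hK), hd₀]; ring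
  have hlC : ell C = genus k K := by rw [ell_add_div (ff hK) C₀ hf₀0, hl₀]
  have hpole : ∀ x ∈ FunFld.L C, poleDiv (k := k) x ≤ C := fun x hx P => by
    rw [poleDiv_apply (ff hK)]
    refine max_le ?_ (hC P)
    rcases eq_or_ne x 0 with rfl | h0
    · simpa [Place.ord] using hC P
    · have h := (mem_L_iff_ord h0).1 hx P
      omega
  have hrange : ∀ x ∈ FunFld.L C, x ∈ Set.range (algebraMap L K) := fun x hx => by
    by_contra hn
    have h1 := hcon x hn
    have h2 := deg_mono (hpole x hx)
    omega
  let ι := (IsScalarTower.toAlgHom k L K).toLinearMap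
  let V := (FunFld.L C).comap ι
  have hι : Function.Injective ι := (algebraMap L K).injective
  have hV : Submodule.map ι V = FunFld.L C := Submodule.map_comap_eq_self fun x hx => hrange x hx
  have hVr : Module.finrank k V = genus k K := by
    rw [← hlC, FunFld.ell, ← hV]
    exact (Submodule.equivMapOfInjective ι hι V).finrank_eq
  haveI : FiniteDimensional k V := Module.finite_of_finrank_pos (by omega)
  let b := Module.finBasis k V
  obtain ⟨E, hE0, hE, hEC⟩ := exists_upper (ff hL) hC (Finset.univ.image fun i => (b i : L)) (by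
    intro a ha
    obtain ⟨i, -, rfl⟩ := Finset.mem_image.1 ha
    exact hpole _ (b i).2)
  have hVE : V ≤ FunFld.L E := by
    intro a ha
    have hb : ∀ i, (b i : L) ∈ FunFld.L E := fun i => by
      rw [mem_L_iff_ord (fun h => b.ne_zero i (Subtype.ext h))]
      intro P
      have h := hE _ (Finset.mem_image.2 ⟨i, Finset.mem_univ _, rfl⟩) P
      rw [poleDiv_apply (ff hL)] at h
      omega
    have h := congrArg (Subtype.val) (b.sum_repr ⟨a, ha⟩)
    show a ∈ FunFld.L E
    rw [show a = ((⟨a, ha⟩ : V) : L) from rfl, ← h, Submodule.coe_sum]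
    exact Submodule.sum_mem _ fun i _ => Submodule.smul_mem _ _ (hb i)
  haveI := finiteDimensional_L (ff hL) E
  have hlE : genus k K ≤ ell E := hVr ▸ Submodule.finrank_mono hVE
  have hcon' : FunFld.conorm K E ≤ C := fun Q => by
    rw [conorm_apply (ff hL)]
    exact hEC Q
  have h1 := deg_mono hcon'
  rw [deg_conorm (ff hL), hdC] at h1
  have h2 := deg_nonneg hE0
  have h3 : (2 : ℤ) * E.deg ≤ Module.finrank L K * E.deg :=
    mul_le_mul_of_nonneg_right (by exact_mod_cast hdeg) h2
  have h5 : (ell E : ℤ) ≤ E.deg + 1 := by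
    have := delta_mono (ff hL) hE0
    rw [delta_zero hL, delta] at this
    omega
  have h6 : genus k L = 0 := eq_zero_of_delta hL hE0 (by omega) (by omega)
  omega

end Groth.Agent.SepPt17
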