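import Groth.Agent.Lib.SepPt17.Frob
import Groth.Agent.Lib.InvolFF17.Cover
import Groth.Agent.Lib.GeomRed18.Smooth
import Groth.Agent.Lib.GenDeg28.Geom
import Mathlib.Algebra.MvPolynomial.Funext
import Mathlib.FieldTheory.Perfect

/-!
# Closed points with separable residue field from a separable map to the line
-/

set_option linter.style.haveILetI false
set_option autoImplicit false
set_option maxHeartbeats 800000

universe u

open CategoryTheory CategoryTheory.Limits AlgebraicGeometry TopologicalSpace

namespace Groth.Agent.SepPt17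

section coord

attribute [local instance] Curv2.stalkAlgebra

variable {k : Type u} [Field k] {X : Scheme.{u}} [X.Over (Spec (CommRingCat.of k))] [IsIntegral X]
  [IsProper (X ↘ Spec (CommRingCat.of k))] [Smooth (X ↘ Spec (CommRingCat.of k))]

/-- A separable coordinate gives a finite flat map to the line, étale somewhere. -/
theorem exists_map_of_coord (hdim : topologicalKrullDim X = 1)
    (x : X.functionField) (hxt : Transcendental k x)
    (hfin : FiniteDimensional (IntermediateField.adjoin k ({x} : Set X.functionField)) X.functionField)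
    (hsepx : Algebra.IsSeparable (IntermediateField.adjoin k ({x} : Set X.functionField)) X.functionField) :
    ∃ f : X ⟶ CohB1.ProjSpace 1 k, f ≫ CohB1.ProjSpace.toSpec 1 k = X ↘ Spec (CommRingCat.of k) ∧ IsFinite f ∧
      Flat f ∧ (∀ y : ↥(CohB1.ProjSpace 1 k), Scheme.Hom.finrank f y = Module.finrank (IntermediateField.adjoin k ({x} : Set X.functionField)) X.functionField) ∧
      ∃ V : X.Opens, (V : Set X).Nonempty ∧ Etale (V.ι ≫ f) := by
  classical
  haveI := RegExt.isIntegral_projSpace 1 k
  letI : (CohB1.ProjSpace 1 k).Over (Spec (CommRingCat.of k)) := ⟨CohB1.ProjSpace.toSpec 1 k⟩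
  haveI : IsProper ((CohB1.ProjSpace 1 k) ↘ Spec (CommRingCat.of k)) := ProjSpace.isProper_toSpec 1 k
  haveI : IsProper (CohB1.ProjSpace.toSpec 1 k) := ProjSpace.isProper_toSpec 1 k
  haveI : Smooth ((CohB1.ProjSpace 1 k) ↘ Spec (CommRingCat.of k)) := ProjSpace.smooth_toSpec 1 k
  have hdimY : topologicalKrullDim (CohB1.ProjSpace 1 k) = 1 := by rw [Groth.Agent.S10829.result k 1]; rfl
  haveI : IsNoetherian (CohB1.ProjSpace 1 k) := VB17.isNoetherian_of_over (k := k)
  obtain ⟨e, he⟩ := LurothCurve17.exists_ratFunc_equiv (k := k)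
  have hinj : Function.Injective (Polynomial.aeval (R := k) x).toRingHom := transcendental_iff_injective.1 hxt
  let φ : RatFunc k →+* X.functionField := IsFractionRing.lift hinj
  have hφ : ∀ p : Polynomial k, φ (algebraMap (Polynomial k) (RatFunc k) p) = Polynomial.aeval x p :=
    fun p => IsFractionRing.lift_algebraMap hinj p
  let ψ : (CohB1.ProjSpace 1 k).functionField →+* X.functionField := φ.comp e.symm.toRingHom
  have hC : ∀ c : k, φ (RatFunc.C c) = algebraMap k X.functionField c := fun c => by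
    rw [← RatFunc.algebraMap_C, hφ, Polynomial.aeval_C]
  obtain ⟨f, eξ, hf, hgen⟩ := Curve17.exists_hom_of_functionField (X ↘ Spec (CommRingCat.of k))
    (CohB1.ProjSpace.toSpec 1 k)
    (fun y => Curve17.valuationRing_stalk_of_normal (X ↘ Spec (CommRingCat.of k)) hdim
      (fun z => SmoothReg17.isIntegrallyClosed_stalk (X ↘ Spec (CommRingCat.of k)) z) y)
    (CommRingCat.ofHom ψ) (by
      ext c
      show ψ (Curve17.baseStalk (CohB1.ProjSpace.toSpec 1 k) (genericPoint (CohB1.ProjSpace 1 k)) c) = _
      rw [← he c]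
      show φ (e.symm (e (RatFunc.C c))) = _
      rw [e.symm_apply_apply, hC]
      rfl)
  haveI : JacobsonSpace (CohB1.ProjSpace 1 k) := LocallyOfFiniteType.jacobsonSpace (CohB1.ProjSpace.toSpec 1 k)
  haveI : JacobsonSpace X := LocallyOfFiniteType.jacobsonSpace (X ↘ Spec (CommRingCat.of k))
  haveI : IsFinite f := by
    refine Groth.Agent.S0219.result k X (CohB1.ProjSpace 1 k) (X ↘ Spec (CommRingCat.of k))
      (CohB1.ProjSpace.toSpec 1 k) f hf hdim.le fun Z hZ _ => ?_
    rw [irreducibleComponents_eq_singleton, Set.mem_singleton_iff] at hZ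
    subst hZ
    rw [Set.image_univ]
    haveI : LocallyOfFiniteType (f ≫ CohB1.ProjSpace.toSpec 1 k) := by rw [hf]; infer_instance
    haveI : LocallyOfFiniteType f := locallyOfFiniteType_of_comp f (CohB1.ProjSpace.toSpec 1 k)
    obtain ⟨x₀, -, hx₀⟩ := nonempty_inter_closedPoints (Z := (Set.univ : Set X))
      ⟨genericPoint X, trivial⟩ isClosed_univ.isLocallyClosed
    exact Curve17.range_nontrivial hdim.le hdimY f hx₀ eξ
  haveI : Flat f := CurveCoh17.flat_of_pid f (fun y => VB17.pid_stalk (k := k) hdimY.le y) eξ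
  have hd : f.residueDegree (genericPoint X) =
      Module.finrank (IntermediateField.adjoin k ({x} : Set X.functionField)) X.functionField ∧
      (letI := (Curve17.genMap f eξ).hom.toAlgebra
       Algebra.IsSeparable (CohB1.ProjSpace 1 k).functionField X.functionField) := by
    rw [← CurveOm17.finrank_genMap_eq_residueDegree f eξ]
    letI := (Curve17.genMap f eξ).hom.toAlgebra
    have hmem : ∀ z, ψ z ∈ IntermediateField.adjoin k ({x} : Set X.functionField) := fun z => by
      obtain ⟨p, q, -, hpq⟩ := IsFractionRing.div_surjective (A := Polynomial k) (e.symm z)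
      show φ (e.symm z) ∈ _
      rw [← hpq, map_div₀, hφ, hφ]
      exact div_mem (IntermediateField.algebra_adjoin_le_adjoin k _ (Polynomial.aeval_mem_adjoin_singleton k x))
        (IntermediateField.algebra_adjoin_le_adjoin k _ (Polynomial.aeval_mem_adjoin_singleton k x))
    let ψ' := ψ.codRestrict (IntermediateField.adjoin k ({x} : Set X.functionField)) hmem
    have hb : Function.Bijective ψ' := ⟨ψ'.injective, fun z => by
      obtain ⟨p, q, hpq⟩ := IntermediateField.mem_adjoin_simple_iff (F := k) _ |>.1 z.2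
      refine ⟨e (algebraMap _ (RatFunc k) p / algebraMap _ (RatFunc k) q), Subtype.ext ?_⟩
      show φ (e.symm (e _)) = _
      rw [e.symm_apply_apply, map_div₀, hφ, hφ, hpq]⟩
    have hcomm : ∀ z, ψ z = (Curve17.genMap f eξ).hom z := fun z => by rw [hgen]; rfl
    refine ⟨Algebra.finrank_eq_of_equiv_equiv (RingEquiv.ofBijective ψ' hb) (RingEquiv.refl _)
      (RingHom.ext hcomm), ?_⟩
    exact Algebra.IsSeparable.of_equiv_equiv (RingEquiv.ofBijective ψ' hb).symm (RingEquiv.refl _)
      (RingHom.ext fun z => by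
        obtain ⟨w, rfl⟩ := (RingEquiv.ofBijective ψ' hb).surjective z
        show (Curve17.genMap f eξ).hom ((RingEquiv.ofBijective ψ' hb).symm (RingEquiv.ofBijective ψ' hb w)) = ψ w
        rw [RingEquiv.symm_apply_apply, hcomm])
  refine ⟨f, hf, inferInstance, inferInstance, fun y => ?_, ?_⟩
  · haveI : LocallyOfFinitePresentation f := {
      finitePresentation_appLE := fun {U} hU {V} hV le =>
        haveI := IsLocallyNoetherian.component_noetherian (X := CohB1.ProjSpace 1 k) ⟨U, hU⟩
        RingHom.FinitePresentation.of_finiteType.mp (f.finiteType_appLE hU hV le) }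
    rw [(Scheme.Hom.isLocallyConstant_finrank f).apply_eq_of_preconnectedSpace y (genericPoint _),
      CurveCoh17.finrank_genericPoint_eq_residueDegree f eξ
        (fun z hz => AmpleFin18.preimage_genericPoint hdim.le hdimY f hz)]
    exact hd.1
  · have h := (Groth.Agent.S6554.result k X (CohB1.ProjSpace 1 k) hdim hdimY f hf eξ).2
    letI := (Curve17.genMap f eξ).hom.toAlgebra
    exact h.2 ⟨Module.finite_of_finrank_pos (lt_of_lt_of_eq Module.finrank_pos
      ((CurveOm17.finrank_genMap_eq_residueDegree f eξ).trans hd.1).symm), hd.2⟩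

end coord

section point

attribute [local instance] Curv2.resAlgebra

/-- A point with residue field finite over the field is closed. -/
theorem isClosed_of_finite {k : Type u} [Field k] {X : Scheme.{u}} [X.Over (Spec (CommRingCat.of k))]
    [LocallyOfFiniteType (X ↘ Spec (CommRingCat.of k))] {y : X} (hf : FiniteDimensional k (X.residueField y)) :
    IsClosed ({y} : Set X) := by
  haveI : JacobsonSpace X := LocallyOfFiniteType.jacobsonSpace (X ↘ Spec (CommRingCat.of k))
  rw [isClosed_singleton_iff_locallyOfFiniteType]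
  haveI : IsFinite (Spec.map (CommRingCat.ofHom (Curv2.resMap k X y))) :=
    (IsFinite.SpecMap_iff (CommRingCat.ofHom (Curv2.resMap k X y))).2 (RingHom.finite_algebraMap.2 hf)
  haveI : LocallyOfFiniteType (X.fromSpecResidueField y ≫ (X ↘ Spec (CommRingCat.of k))) := by
    rw [← GeomIrr.spec_resMap]; infer_instance
  exact locallyOfFiniteType_of_comp (X.fromSpecResidueField y) (X ↘ Spec (CommRingCat.of k))

attribute [local instance] Curv2.resAlgebra

variable {k : Type u} [Field k]

/-- A morphism over the field gives an embedding of residue fields over the field. -/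
theorem exists_resHom {Z X : Scheme.{u}} [Z.Over (Spec (CommRingCat.of k))] [X.Over (Spec (CommRingCat.of k))]
    (j : Z ⟶ X) (hj : j ≫ (X ↘ Spec (CommRingCat.of k)) = Z ↘ Spec (CommRingCat.of k)) (z : Z) :
    Nonempty (X.residueField (j z) →ₐ[k] Z.residueField z) := by
  refine ⟨{ toRingHom := (j.residueFieldMap z).hom, commutes' := fun c => ?_ }⟩
  refine RingHom.congr_fun (f := (j.residueFieldMap z).hom.comp (Curv2.resMap k X (j z))) ?_ c
  refine congrArg CommRingCat.Hom.hom (Spec.map_injective
    (a₁ := CommRingCat.ofHom (Curv2.resMap k X (j z)) ≫ j.residueFieldMap z)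
    (a₂ := CommRingCat.ofHom (Curv2.resMap k Z z)) ?_)
  refine Eq.trans ?_ (GeomIrr.spec_resMap k Z z).symm
  rw [Spec.map_comp, GeomIrr.spec_resMap, ← Category.assoc, Scheme.Hom.SpecMap_residueFieldMap_fromSpecResidueField,
    Category.assoc]
  exact congrArg (Z.fromSpecResidueField z ≫ ·) hj

/-- Over an infinite field a nonempty open of the line has a rational point. -/
theorem exists_section_mem [Infinite k] (U : (CohB1.ProjSpace 1 k).Opens) (hU : (U : Set (CohB1.ProjSpace 1 k)).Nonempty) :
    ∃ s : Spec (CommRingCat.of k) ⟶ CohB1.ProjSpace 1 k, s ≫ CohB1.ProjSpace.toSpec 1 k = 𝟙 _ ∧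
      s (IsLocalRing.closedPoint k) ∈ U := by
  haveI := RegExt.isIntegral_projSpace 1 k
  let c := ProjSpace.chart 1 k 0
  obtain ⟨z, hz⟩ := hU
  have hne : ∃ w, w ∈ c ⁻¹ᵁ U := by
    obtain ⟨y, hy⟩ := nonempty_preirreducible_inter c.opensRange.2 U.2
      ⟨_, ⟨(⊥ : PrimeSpectrum (MvPolynomial {j : Fin (1 + 1) // j ≠ 0} k)), rfl⟩⟩ ⟨z, hz⟩
    obtain ⟨w, rfl⟩ := hy.1
    exact ⟨w, hy.2⟩
  obtain ⟨w, hw⟩ := hne
  obtain ⟨_, ⟨g, rfl⟩, hwg, hgU⟩ :=
    PrimeSpectrum.isTopologicalBasis_basic_opens.exists_subset_of_mem_open hw (c ⁻¹ᵁ U).2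
  have hg : g ≠ 0 := fun h => hwg (by rw [h]; exact zero_mem _)
  obtain ⟨a, ha⟩ : ∃ a : {j : Fin (1 + 1) // j ≠ 0} → k, MvPolynomial.eval a g ≠ 0 := by
    by_contra hc
    push_neg at hc
    exact hg (MvPolynomial.funext fun a => by rw [hc a, map_zero])
  refine ⟨Spec.map (CommRingCat.ofHom (MvPolynomial.eval a)) ≫ c, ?_, ?_⟩
  · rw [Category.assoc, ProjSpace.chart_toSpec, ← Spec.map_comp, ← Spec.map_id]
    congr 1
    ext x
    exact MvPolynomial.eval_C x
  · show c (Spec.map (CommRingCat.ofHom (MvPolynomial.eval a)) (IsLocalRing.closedPoint k)) ∈ U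
    refine hgU (fun h => ha ?_)
    have h' : MvPolynomial.eval a g ∈ IsLocalRing.maximalIdeal k := h
    rwa [IsLocalRing.maximalIdeal_eq_bot, Ideal.mem_bot] at h'

/-- The residue field of the image of a point of a finite scheme over a field is small. -/
theorem finrank_le_of_finite {Z X : Scheme.{u}} [Z.Over (Spec (CommRingCat.of k))] [X.Over (Spec (CommRingCat.of k))]
    [IsFinite (Z ↘ Spec (CommRingCat.of k))]
    (j : Z ⟶ X) (hj : j ≫ (X ↘ Spec (CommRingCat.of k)) = Z ↘ Spec (CommRingCat.of k)) (z : Z) :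
    FiniteDimensional k (X.residueField (j z)) ∧ Module.finrank k (X.residueField (j z)) ≤
      (Z ↘ Spec (CommRingCat.of k)).finrank (IsLocalRing.closedPoint k) := by
  haveI : IsAffine Z := isAffine_of_isAffineHom (Z ↘ Spec (CommRingCat.of k))
  let φ := (Scheme.ΓSpecIso (CommRingCat.of k)).inv ≫ (Z ↘ Spec (CommRingCat.of k)).appTop
  have hrk := GenDeg28.finrank_fibre (Z ↘ Spec (CommRingCat.of k)) (IsLocalRing.closedPoint k)
  letI := φ.hom.toAlgebra
  haveI : Module.Finite k Γ(Z, ⊤) := by
    have h1 : φ.hom.Finite := (IsFinite.finite_app (f := Z ↘ Spec (CommRingCat.of k)) ⊤ (isAffineOpen_top _)).comp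
      (RingHom.Finite.of_surjective _ (ConcreteCategory.bijective_of_isIso (Scheme.ΓSpecIso (CommRingCat.of k)).inv).2)
    exact h1
  let ev : Γ(Z, ⊤) →ₐ[k] Z.residueField z :=
    { toRingHom := (Z.evaluation ⊤ z trivial).hom, commutes' := fun c => rfl }
  have hsurj : Function.Surjective ev := fun w => by
    obtain ⟨a, b, rfl⟩ := VarDim.exists_evaluation_eq_div (isAffineOpen_top Z) z trivial w
    haveI : FiniteDimensional k ev.range :=
      Module.Finite.of_surjective ev.rangeRestrict.toLinearMap ev.rangeRestrict_surjective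
    have hb : IsAlgebraic k (ev b) :=
      ((IsIntegral.of_finite k (⟨ev b, b, rfl⟩ : ev.range)).map ev.range.val).isAlgebraic
    exact mul_mem (show ev a ∈ ev.range from ⟨a, rfl⟩)
      (Subalgebra.inv_mem_of_algebraic (A := ev.range) (x := ⟨ev b, b, rfl⟩) hb)
  haveI : FiniteDimensional k (Z.residueField z) := Module.Finite.of_surjective ev.toLinearMap hsurj
  obtain ⟨r⟩ := exists_resHom j hj z
  haveI : FiniteDimensional k (X.residueField (j z)) := FiniteDimensional.of_injective r.toLinearMap r.toRingHom.injective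
  exact ⟨inferInstance, ((LinearMap.finrank_le_finrank_of_injective (f := r.toLinearMap) r.toRingHom.injective).trans
    (LinearMap.finrank_le_finrank_of_surjective (f := ev.toLinearMap) hsurj)).trans hrk.ge⟩

/-- A closed point with separable residue field, of degree at most that of a map to the line. -/
theorem exists_point {X : Scheme.{u}} [X.Over (Spec (CommRingCat.of k))] [IsIntegral X]
    [IsProper (X ↘ Spec (CommRingCat.of k))] (h : X ⟶ CohB1.ProjSpace 1 k)
    (hh : h ≫ CohB1.ProjSpace.toSpec 1 k = X ↘ Spec (CommRingCat.of k)) [IsFinite h] [Flat h] {N : ℕ}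
    (hN : ∀ y : ↥(CohB1.ProjSpace 1 k), Scheme.Hom.finrank h y = N) (hN0 : 0 < N)
    {V : X.Opens} (hV : (V : Set X).Nonempty) [Etale (V.ι ≫ h)] :
    ∃ x : X, IsClosed ({x} : Set X) ∧ Algebra.IsSeparable k (X.residueField x) ∧
      Module.finrank k (X.residueField x) ≤ N ∧ FiniteDimensional k (X.residueField x) := by
  haveI := RegExt.isIntegral_projSpace 1 k
  haveI : LocallyOfFinitePresentation h := by
    haveI : IsProper (CohB1.ProjSpace.toSpec 1 k) := ProjSpace.isProper_toSpec 1 k
    haveI : IsLocallyNoetherian (CohB1.ProjSpace 1 k) :=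
      LocallyOfFiniteType.isLocallyNoetherian (CohB1.ProjSpace.toSpec 1 k)
    exact {
      finitePresentation_appLE := fun {U} hU {W} hW le =>
        haveI := IsLocallyNoetherian.component_noetherian (X := CohB1.ProjSpace 1 k) ⟨U, hU⟩
        RingHom.FinitePresentation.of_finiteType.mp (h.finiteType_appLE hU hW le) }
  -- a rational point with the right preimage
  have main : ∀ (s : Spec (CommRingCat.of k) ⟶ CohB1.ProjSpace 1 k), s ≫ CohB1.ProjSpace.toSpec 1 k = 𝟙 _ →
      ∀ x₀ : X, h x₀ = s (IsLocalRing.closedPoint k) → ∃ x : X, IsClosed ({x} : Set X) ∧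
        (x₀ ∈ V → Algebra.IsSeparable k (X.residueField x)) ∧
        Module.finrank k (X.residueField x) ≤ N ∧ FiniteDimensional k (X.residueField x) := by
    intro s hs x₀ hx₀
    let P := pullback h s
    letI : P.Over (Spec (CommRingCat.of k)) := ⟨pullback.snd h s⟩
    haveI : IsFinite (P ↘ Spec (CommRingCat.of k)) := inferInstanceAs (IsFinite (pullback.snd h s))
    let j : P ⟶ X := pullback.fst h s
    have hj : j ≫ (X ↘ Spec (CommRingCat.of k)) = P ↘ Spec (CommRingCat.of k) := by
      rw [← hh, pullback.condition_assoc, hs, Category.comp_id]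
      rfl
    have hfinrk : (P ↘ Spec (CommRingCat.of k)).finrank (IsLocalRing.closedPoint k) = N :=
      (Scheme.Hom.finrank_pullback_snd _ _ _).trans (hN _)
    by_cases hx₀V : x₀ ∈ V
    · let W := pullback (V.ι ≫ h) s
      letI : W.Over (Spec (CommRingCat.of k)) := ⟨pullback.snd (V.ι ≫ h) s⟩
      haveI : Etale (W ↘ Spec (CommRingCat.of k)) := inferInstanceAs (Etale (pullback.snd (V.ι ≫ h) s))
      obtain ⟨w, hw, -⟩ := Scheme.Pullback.exists_preimage_pullback (f := V.ι ≫ h) (g := s) ⟨x₀, hx₀V⟩
        (IsLocalRing.closedPoint k) hx₀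
      obtain ⟨hfin, hsep⟩ := GeomRed.finite_separable_of_etale (k := k) w
      let i : W ⟶ P := pullback.lift (pullback.fst _ _ ≫ V.ι) (pullback.snd _ _) (by
        rw [Category.assoc, pullback.condition])
      have hi : (i ≫ j) ≫ (X ↘ Spec (CommRingCat.of k)) = W ↘ Spec (CommRingCat.of k) := by
        rw [Category.assoc, hj]; exact pullback.lift_snd _ _ _
      obtain ⟨r⟩ := exists_resHom (i ≫ j) hi w
      obtain ⟨hf, hle⟩ := finrank_le_of_finite j hj (i w)
      refine ⟨j (i w), ?_, fun _ => ?_, hfinrk ▸ hle, hf⟩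
      · exact isClosed_of_finite hf
      · haveI := hsep
        exact Algebra.IsSeparable.of_algHom k (W.residueField w) r
    · obtain ⟨p, -, -⟩ := Scheme.Pullback.exists_preimage_pullback (f := h) (g := s) x₀
        (IsLocalRing.closedPoint k) hx₀
      obtain ⟨hf, hle⟩ := finrank_le_of_finite j hj p
      exact ⟨j p, isClosed_of_finite hf, fun h => absurd h hx₀V, hfinrk ▸ hle, hf⟩
  rcases finite_or_infinite k with hk | hk
  · -- a finite field is perfect
    let a : {j : Fin (1 + 1) // j ≠ 0} → k := fun _ => 0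
    let s := Spec.map (CommRingCat.ofHom (MvPolynomial.eval a)) ≫ ProjSpace.chart 1 k 0
    have hs : s ≫ CohB1.ProjSpace.toSpec 1 k = 𝟙 _ := by
      rw [Category.assoc, ProjSpace.chart_toSpec, ← Spec.map_comp, ← Spec.map_id]
      congr 1
      ext x
      exact MvPolynomial.eval_C x
    haveI : Surjective h := (Scheme.Hom.one_le_finrank_iff_surjective h).1 (fun y => le_of_le_of_eq hN0 (hN y).symm)
    obtain ⟨x₀, hx₀⟩ := h.surjective (s (IsLocalRing.closedPoint k))
    obtain ⟨x, hx, -, hd, hf⟩ := main s hs x₀ hx₀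
    haveI := hf
    exact ⟨x, hx, inferInstance, hd, hf⟩
  · have ho : IsOpen (Set.range (V.ι ≫ h)) := (V.ι ≫ h).isOpenMap.isOpen_range
    obtain ⟨v, hv⟩ := hV
    obtain ⟨s, hs, hsU⟩ := exists_section_mem (⟨_, ho⟩ : (CohB1.ProjSpace 1 k).Opens) ⟨_, ⟨v, hv⟩, rfl⟩
    obtain ⟨⟨x₀, hx₀V⟩, hx₀⟩ := hsU
    obtain ⟨x, hx, hsep, hd, hf⟩ := main s hs x₀ hx₀
    exact ⟨x, hx, hsep hx₀V, hd, hf⟩

end point

end Groth.Agent.SepPt17
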